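import Cfsg.Agent.Lib.Coprime.Generation
import Cfsg.Agent.Lib.Invol.SolvableCore
import Mathlib.GroupTheory.SemidirectProduct

/-!
# Odd automorphisms of a quaternion subgroup, and generation by fixed points
-/

set_option autoImplicit false
set_option linter.unusedSectionVars false

namespace CfsgLib.FourQuaternion

variable {W : Type*} [Group W] [Finite W]

/-- An automorphism of odd order fixing `x` after two steps fixes it. -/
theorem apply_eq_of_two {f : MulAut W} (hf : Odd (orderOf f)) {x : W} (h : f (f x) = x) :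
    f x = x := by
  obtain ⟨k, hk⟩ := hf
  have h2 : ∀ j : ℕ, (f ^ (2 * j)) x = x := fun j => by
    induction j with
    | zero => simp
    | succ j ih => rw [show 2 * (j + 1) = 2 * j + 2 by ring, pow_add, MulAut.mul_apply, pow_two,
        MulAut.mul_apply, h, ih]
  have h1 : (f ^ (2 * k + 1)) x = x := by rw [← hk, pow_orderOf_eq_one, MulAut.one_apply]
  rw [pow_succ', MulAut.mul_apply, h2] at h1
  exact h1

/-- An automorphism of odd order with `f x ∈ {x, x z}` fixes `x`. -/
theorem apply_eq_of_coset {f : MulAut W} (hf : Odd (orderOf f)) {x z : W} (hz : f z = z)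
    (hzz : z * z = 1) (h : f x = x ∨ f x = x * z) : f x = x := by
  rcases h with h | h
  · exact h
  · exact apply_eq_of_two hf (by rw [h, map_mul, h, hz, mul_assoc, hzz, mul_one])

/-- What is used about a fixed-point subgroup isomorphic to the quaternion group. -/
structure IsQ8 (Q : Subgroup W) (z : W) : Prop where
  card : Nat.card Q = 8
  z_mem : z ∈ Q
  z_sq : z * z = 1
  z_ne : z ≠ 1
  sq : ∀ x ∈ Q, x ≠ 1 → x ≠ z → x * x = z
  comm_z : ∀ x ∈ Q, z * x = x * z

namespace IsQ8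

variable {Q : Subgroup W} {z : W} (hQ : IsQ8 Q z)
include hQ

theorem eq_of_subset {S : Finset W} (hS : (S : Set W) ⊆ (Q : Set W)) (hc : 8 ≤ S.card) :
    (S : Set W) = (Q : Set W) := by
  refine Set.eq_of_subset_of_ncard_le hS ?_ (Set.toFinite _)
  rw [Set.ncard_coe_finset, ← Nat.card_coe_set_eq]
  exact (le_of_eq hQ.card).trans hc

theorem z_inv : z⁻¹ = z := inv_eq_of_mul_eq_one_right hQ.z_sq

theorem inv_eq {x : W} (hx : x ∈ Q) (h1 : x ≠ 1) (h2 : x ≠ z) : x⁻¹ = x * z := by
  refine inv_eq_of_mul_eq_one_right ?_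
  rw [← mul_assoc, hQ.sq x hx h1 h2, hQ.z_sq]

theorem mem_span {x y q : W} (hx : x ∈ Q) (hy : y ∈ Q) (hx1 : x ≠ 1) (hxz : x ≠ z) (hy1 : y ≠ 1)
    (hyz : y ≠ z) (hyx : y ≠ x) (hyxz : y ≠ x * z) (hq : q ∈ Q) :
    q = 1 ∨ q = z ∨ q = x ∨ q = x * z ∨ q = y ∨ q = y * z ∨ q = x * y ∨ q = x * y * z := by
  classical
  have hzx := hQ.comm_z x hx
  have hzy := hQ.comm_z y hy
  have hinvx := hQ.inv_eq hx hx1 hxz
  have d1 : x * z ≠ 1 := fun h => hxz (by rw [eq_inv_of_mul_eq_one_left h, hQ.z_inv])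
  have d2 : x * z ≠ z := fun h => hx1 (mul_eq_right.mp h)
  have d3 : x * z ≠ x := fun h => hQ.z_ne (mul_eq_left.mp h)
  have d4 : y * z ≠ 1 := fun h => hyz (by rw [eq_inv_of_mul_eq_one_left h, hQ.z_inv])
  have d5 : y * z ≠ z := fun h => hy1 (mul_eq_right.mp h)
  have d6 : y * z ≠ x := fun h => hyxz (by rw [← h, mul_assoc, hQ.z_sq, mul_one])
  have d7 : y * z ≠ x * z := fun h => hyx (mul_right_cancel h)
  have d8 : y * z ≠ y := fun h => hQ.z_ne (mul_eq_left.mp h)
  have d9 : x * y ≠ 1 := fun h => hyxz (by rw [eq_inv_of_mul_eq_one_right h, hinvx])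
  have d10 : x * y ≠ z := fun h => hyx (by
    rw [← hQ.sq x hx hx1 hxz] at h
    exact mul_left_cancel h)
  have d11 : x * y ≠ x := fun h => hy1 (mul_eq_left.mp h)
  have d12 : x * y ≠ x * z := fun h => hyz (mul_left_cancel h)
  have d13 : x * y ≠ y := fun h => hx1 (mul_eq_right.mp h)
  have d14 : x * y ≠ y * z := fun h => hxz (by
    rw [← hzy] at h
    exact mul_right_cancel h)
  have d15 : x * y * z ≠ 1 := fun h => d10 (by rw [eq_inv_of_mul_eq_one_left h, hQ.z_inv])
  have d16 : x * y * z ≠ z := fun h => d9 (mul_eq_right.mp h)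
  have d17 : x * y * z ≠ x := fun h => d12 (by
    conv_rhs => rw [← h, mul_assoc, hQ.z_sq, mul_one])
  have d18 : x * y * z ≠ x * z := fun h => d11 (mul_right_cancel h)
  have d19 : x * y * z ≠ y := fun h => d14 (by
    conv_rhs => rw [← h, mul_assoc, hQ.z_sq, mul_one])
  have d20 : x * y * z ≠ y * z := fun h => d13 (mul_right_cancel h)
  have d21 : x * y * z ≠ x * y := fun h => hQ.z_ne (mul_eq_left.mp h)
  set S : Finset W := {1, z, x, x * z, y, y * z, x * y, x * y * z}
  have hc : S.card = 8 := by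
    simp [S, hQ.z_ne.symm, hx1.symm, hxz.symm, hy1.symm, hyz.symm, hyx.symm, hyxz.symm,
      d1.symm, d2.symm, d3.symm, d4.symm, d5.symm, d6.symm, d7.symm, d8.symm, d9.symm, d10.symm,
      d11.symm, d12.symm, d13.symm, d14.symm, d15.symm, d16.symm, d17.symm, d18.symm, d19.symm,
      d20.symm, d21.symm]
  have hS : (S : Set W) ⊆ (Q : Set W) := by
    intro a ha
    simp only [S, Finset.coe_insert, Finset.coe_singleton, Set.mem_insert_iff,
      Set.mem_singleton_iff] at ha
    rcases ha with rfl | rfl | rfl | rfl | rfl | rfl | rfl | rfl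
    exacts [Q.one_mem, hQ.z_mem, hx, Q.mul_mem hx hQ.z_mem, hy, Q.mul_mem hy hQ.z_mem,
      Q.mul_mem hx hy, Q.mul_mem (Q.mul_mem hx hy) hQ.z_mem]
  have : q ∈ (S : Set W) := (hQ.eq_of_subset hS hc.ge).symm ▸ hq
  simpa [S] using this

/-- An odd automorphism fixing a non-central element is trivial. -/
theorem trivial_of_fix {f : MulAut W} (hf : Odd (orderOf f)) (hfQ : ∀ q ∈ Q, f q ∈ Q)
    (hfz : f z = z) {x : W} (hx : x ∈ Q) (hx1 : x ≠ 1) (hxz : x ≠ z) (hfx : f x = x) :
    ∀ q ∈ Q, f q = q := by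
  intro q hq
  by_cases hq' : q = 1 ∨ q = z ∨ q = x ∨ q = x * z
  · rcases hq' with rfl | rfl | rfl | rfl
    · exact map_one f
    · exact hfz
    · exact hfx
    · rw [map_mul, hfx, hfz]
  push Not at hq'
  obtain ⟨h1, h2, h3, h4⟩ := hq'
  have hxy := hQ.comm_z q hq
  rcases hQ.mem_span hx hq hx1 hxz h1 h2 h3 h4 (hfQ q hq) with e | e | e | e | e | e | e | e
  · exact absurd (f.injective (e.trans (map_one f).symm)) h1
  · exact absurd (f.injective (e.trans hfz.symm)) h2
  · exact absurd (f.injective (e.trans hfx.symm)) h3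
  · exact absurd (f.injective (e.trans (by rw [map_mul, hfx, hfz]))) h4
  · exact e
  · exact apply_eq_of_coset hf hfz hQ.z_sq (.inr e)
  all_goals
    have hzq : x * (x * q) = q * z := by
      rw [← mul_assoc, hQ.sq x hx hx1 hxz, hxy]
  · have h' : f (f q) = q * z := by rw [e, map_mul, hfx, e, hzq]
    have h4' : (f ^ 2) (q) = q * z := by rw [pow_two, MulAut.mul_apply, h']
    have h5 : (f ^ 2) q = q := apply_eq_of_coset
      (Odd.of_dvd_nat hf (orderOf_pow_dvd 2)) (by rw [pow_two, MulAut.mul_apply, hfz, hfz]) hQ.z_sq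
      (.inr h4')
    exact apply_eq_of_two hf (by rwa [pow_two, MulAut.mul_apply] at h5)
  · have h' : f (f q) = q * z := by
      rw [e, map_mul, map_mul, hfx, hfz, e, mul_assoc x _ z, mul_assoc (x * q) z z, hQ.z_sq,
        mul_one, hzq]
    have h4' : (f ^ 2) (q) = q * z := by rw [pow_two, MulAut.mul_apply, h']
    have h5 : (f ^ 2) q = q := apply_eq_of_coset
      (Odd.of_dvd_nat hf (orderOf_pow_dvd 2)) (by rw [pow_two, MulAut.mul_apply, hfz, hfz]) hQ.z_sq
      (.inr h4')
    exact apply_eq_of_two hf (by rwa [pow_two, MulAut.mul_apply] at h5)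

/-- A non-trivial odd automorphism moves every non-central coset of `⟨z⟩` cyclically. -/
theorem cycle {f : MulAut W} (hf : Odd (orderOf f)) (hfQ : ∀ q ∈ Q, f q ∈ Q) (hfz : f z = z)
    (hne : ∃ q ∈ Q, f q ≠ q) {x : W} (hx : x ∈ Q) (hx1 : x ≠ 1) (hxz : x ≠ z) :
    f x ≠ x ∧ f x ≠ x * z ∧ f (f (f x)) = x ∧
      ∀ q ∈ Q, q = 1 ∨ q = z ∨ q = x ∨ q = x * z ∨ q = f x ∨ q = f x * z ∨ q = f (f x) ∨
        q = f (f x) * z := by
  have hno : ∀ u ∈ Q, u ≠ 1 → u ≠ z → f u ≠ u ∧ f u ≠ u * z ∧ f (f u) ≠ u ∧ f (f u) ≠ u * z := by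
    intro u hu hu1 huz
    have h1 : f u ≠ u := fun h => by
      obtain ⟨q, hq, hq'⟩ := hne
      exact hq' (hQ.trivial_of_fix hf hfQ hfz hu hu1 huz h q hq)
    have h2 : f (f u) ≠ u := fun h => h1 (apply_eq_of_two hf h)
    refine ⟨h1, fun h => h1 (apply_eq_of_coset hf hfz hQ.z_sq (.inr h)), h2, fun h => h2 ?_⟩
    have h5 : (f ^ 2) u = u := apply_eq_of_coset
      (Odd.of_dvd_nat hf (orderOf_pow_dvd 2)) (by rw [pow_two, MulAut.mul_apply, hfz, hfz]) hQ.z_sq
      (.inr (by rw [pow_two, MulAut.mul_apply]; exact h))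
    rwa [pow_two, MulAut.mul_apply] at h5
  obtain ⟨a1, a2, a3, a4⟩ := hno x hx hx1 hxz
  have hfx1 : f x ≠ 1 := fun h => hx1 (f.injective (h.trans (map_one f).symm))
  have hfxz : f x ≠ z := fun h => hxz (f.injective (h.trans hfz.symm))
  obtain ⟨b1, b2, b3, b4⟩ := hno (f x) (hfQ x hx) hfx1 hfxz
  have hffx1 : f (f x) ≠ 1 := fun h => hfx1 (f.injective (h.trans (map_one f).symm))
  have hffxz : f (f x) ≠ z := fun h => hfxz (f.injective (h.trans hfz.symm))
  -- the third coset is `x (f x)`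
  have h3 : f (f x) = x * f x ∨ f (f x) = x * f x * z := by
    rcases hQ.mem_span hx (hfQ x hx) hx1 hxz hfx1 hfxz a1 a2 (hfQ _ (hfQ x hx)) with
      e | e | e | e | e | e | e | e
    · exact absurd e hffx1
    · exact absurd e hffxz
    · exact absurd e a3
    · exact absurd e a4
    · exact absurd e b1
    · exact absurd e b2
    · exact .inl e
    · exact .inr e
  have hspan : ∀ q ∈ Q, q = 1 ∨ q = z ∨ q = x ∨ q = x * z ∨ q = f x ∨ q = f x * z ∨ q = f (f x) ∨
      q = f (f x) * z := by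
    intro q hq
    rcases hQ.mem_span hx (hfQ x hx) hx1 hxz hfx1 hfxz a1 a2 hq with
      e | e | e | e | e | e | e | e
    · exact .inl e
    · exact .inr (.inl e)
    · exact .inr (.inr (.inl e))
    · exact .inr (.inr (.inr (.inl e)))
    · exact .inr (.inr (.inr (.inr (.inl e))))
    · exact .inr (.inr (.inr (.inr (.inr (.inl e)))))
    · rcases h3 with h | h
      · exact .inr (.inr (.inr (.inr (.inr (.inr (.inl (e.trans h.symm)))))))
      · exact .inr (.inr (.inr (.inr (.inr (.inr (.inr (by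
          rw [e, h, mul_assoc (x * f x) z z, hQ.z_sq, mul_one])))))))
    · rcases h3 with h | h
      · exact .inr (.inr (.inr (.inr (.inr (.inr (.inr (by rw [e, h])))))))
      · exact .inr (.inr (.inr (.inr (.inr (.inr (.inl (e.trans h.symm)))))))
  refine ⟨a1, a2, ?_, hspan⟩
  obtain ⟨c1, c2, -, -⟩ := hno (f (f x)) (hfQ _ (hfQ x hx)) hffx1 hffxz
  rcases hspan (f (f (f x))) (hfQ _ (hfQ _ (hfQ x hx))) with e | e | e | e | e | e | e | e
  · exact absurd (f.injective (e.trans (map_one f).symm)) hffx1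
  · exact absurd (f.injective (e.trans hfz.symm)) hffxz
  · exact e
  · have hf3 : Odd (orderOf (f ^ 3)) := Odd.of_dvd_nat hf (orderOf_pow_dvd 3)
    have h3' : ∀ a, (f ^ 3) a = f (f (f a)) := fun a => by
      rw [pow_succ, pow_two, MulAut.mul_apply, MulAut.mul_apply]
    have := apply_eq_of_coset hf3 (by rw [h3', hfz, hfz, hfz]) hQ.z_sq
      (.inr (by rw [h3']; exact e))
    rwa [h3'] at this
  · exact absurd e b3
  · exact absurd e b4
  · exact absurd e c1
  · exact absurd e c2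

end IsQ8

/-- Generation of an invariant subgroup by fixed points of a noncyclic abelian group of
automorphisms of coprime order. -/
theorem le_of_fixed_le (E : Subgroup (MulAut W)) (hab : IsMulCommutative E) (hnc : ¬ IsCyclic E)
    (hcop : (Nat.card E).Coprime (Nat.card W)) (M Y : Subgroup W)
    (hM : ∀ f ∈ E, ∀ x ∈ M, f x ∈ M)
    (hY : ∀ f ∈ E, f ≠ 1 → ∀ x ∈ M, f x = x → x ∈ Y) : M ≤ Y := by
  haveI : Finite (MulAut W) :=
    Finite.of_injective (fun f : MulAut W => (f : W → W)) DFunLike.coe_injective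
  haveI : Finite (W ⋊[E.subtype] E) := Finite.of_equiv (W × E) SemidirectProduct.equivProd.symm
  let il : W →* W ⋊[E.subtype] E := SemidirectProduct.inl
  let ir : E →* W ⋊[E.subtype] E := SemidirectProduct.inr
  have hir : Function.Injective ir := SemidirectProduct.inr_injective
  have hil : Function.Injective il := SemidirectProduct.inl_injective
  haveI : IsMulCommutative ir.range := ⟨⟨by
    rintro ⟨_, a, rfl⟩ ⟨_, b, rfl⟩
    refine Subtype.ext ?_
    show ir a * ir b = ir b * ir a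
    rw [← map_mul, ← map_mul, mul_comm' a b]⟩⟩
  have hnc' : ¬ IsCyclic ir.range := fun h =>
    hnc (isCyclic_of_surjective (MonoidHom.ofInjective hir).symm
      (MonoidHom.ofInjective hir).symm.surjective)
  have hconj : ∀ (e : E) (x : W), ir e * il x * (ir e)⁻¹ = il ((e : MulAut W) x) := fun e x => by
    rw [← map_inv]
    exact (SemidirectProduct.inl_aut (φ := E.subtype) e x).symm
  have hnorm : ir.range ≤ Subgroup.normalizer ((M.map il : Subgroup _) : Set _) := by
    rintro _ ⟨e, rfl⟩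
    refine Subgroup.mem_normalizer_iff.mpr fun u => ⟨?_, fun h => ?_⟩
    · rintro ⟨x, hx, rfl⟩
      exact ⟨_, hM e e.2 x hx, (hconj e x).symm⟩
    · obtain ⟨x, hx, hxu⟩ := h
      refine ⟨((e⁻¹ : E) : MulAut W) x, hM _ (e⁻¹).2 x hx, ?_⟩
      rw [← hconj, hxu, map_inv]
      group
  have hcop' : (Nat.card ir.range).Coprime (Nat.card (M.map il : Subgroup _)) := by
    rw [← Nat.card_congr (MonoidHom.ofInjective hir).toEquiv,
      Subgroup.card_map_of_injective hil]
    exact hcop.coprime_dvd_right (Subgroup.card_subgroup_dvd_card M)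
  have hle := Coprime.le_of_centralizer_le (Y := Y.map il) hnc' hnorm hcop' (by
    rintro _ ⟨e, rfl⟩ hne u hu
    obtain ⟨⟨x, hx, rfl⟩, hc⟩ := Subgroup.mem_inf.mp hu
    refine ⟨x, hY e e.2 (fun h => hne ?_) x hx (hil ?_), rfl⟩
    · rw [show e = 1 from Subtype.ext h, map_one]
    · rw [← hconj, ← Subgroup.mem_centralizer_singleton_iff.mp hc, mul_inv_cancel_right])
  intro x hx
  obtain ⟨y, hy, e⟩ := hle ⟨x, hx, rfl⟩
  exact hil e ▸ hy

end CfsgLib.FourQuaternion
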