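import Cfsg.Agent.Lib.FourQuaternion.Basic
import Cfsg.Agent.Lib.Char.Extraspecial
import Cfsg.Agent.Lib.OddOmega.Basic
import Cfsg.Agent.Lib.Critical.Basic

/-!
# A noncyclic abelian group of odd automorphisms with at most one fixed involution each

A 2-group with such operators is a central product of two, three or four quaternion groups.
-/

set_option autoImplicit false
set_option linter.unusedSectionVars false

namespace CfsgLib.FourQuaternion

open Cfsg
open scoped commutatorElement

variable {W : Type*} [Group W] [Finite W]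

/-- The fixed points of an automorphism. -/
def fx (f : MulAut W) : Subgroup W := (f : W →* W).eqLocus (MonoidHom.id W)

theorem mem_fx {f : MulAut W} {x : W} : x ∈ fx f ↔ f x = x := Iff.rfl

variable {p : ℕ} [hpf : Fact p.Prime]

/-- The hypotheses. -/
structure Hyp (W : Type*) [Group W] (p : ℕ) (E : Subgroup (MulAut W)) : Prop where
  two : IsPGroup 2 W
  odd : p ≠ 2
  pg : IsPGroup p E
  ab : IsMulCommutative E
  nc : ¬ IsCyclic E
  fix : ∀ e ∈ E, e ≠ 1 → ∀ x y : W, orderOf x = 2 → orderOf y = 2 → e x = x → e y = y → x = y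

variable {E : Subgroup (MulAut W)} (h : Hyp W p E)
include h

omit [Finite W] in
theorem odd_order {f : MulAut W} (hf : f ∈ E) : Odd (orderOf f) := by
  obtain ⟨k, hk⟩ := h.pg ⟨f, hf⟩
  exact Odd.of_dvd_nat (((hpf.out.odd_of_ne_two h.odd)).pow (n := k))
    (orderOf_dvd_of_pow_eq_one (congrArg Subtype.val hk))

omit [Finite W] in
theorem apply_comm {f g : MulAut W} (hf : f ∈ E) (hg : g ∈ E) (x : W) : f (g x) = g (f x) := by
  haveI := h.ab
  have h1 : f * g = g * f := congrArg Subtype.val (mul_comm' (⟨f, hf⟩ : E) ⟨g, hg⟩)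
  exact DFunLike.congr_fun h1 x

omit [Finite W] in
theorem exists_ne_one : ∃ e ∈ E, e ≠ 1 := by
  by_contra hno
  push Not at hno
  haveI : Subsingleton E := ⟨fun a b => Subtype.ext ((hno a a.2).trans (hno b b.2).symm)⟩
  exact h.nc inferInstance

theorem coprime_card : (Nat.card E).Coprime (Nat.card W) := by
  haveI : Finite (MulAut W) :=
    Finite.of_injective (fun f : MulAut W => (f : W → W)) DFunLike.coe_injective
  haveI := Fact.mk Nat.prime_two
  obtain ⟨a, ha⟩ := IsPGroup.iff_card.mp h.pg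
  obtain ⟨b, hb⟩ := IsPGroup.iff_card.mp h.two
  rw [ha, hb]
  exact ((Nat.coprime_primes hpf.out Nat.prime_two).mpr h.odd).pow a b

theorem gen (M Y : Subgroup W) (hM : ∀ f ∈ E, ∀ x ∈ M, f x ∈ M)
    (hY : ∀ f ∈ E, f ≠ 1 → ∀ x ∈ M, f x = x → x ∈ Y) : M ≤ Y :=
  le_of_fixed_le E h.ab h.nc (coprime_card h) M Y hM hY

/-- The involution. -/
theorem exists_z : ∃ z : W, z ≠ 1 ∧ z * z = 1 ∧ (∀ x, z * x = x * z) ∧ (∀ f ∈ E, f z = z) ∧
    ∀ e ∈ E, e ≠ 1 → ∀ x, orderOf x = 2 → e x = x → x = z := by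
  classical
  haveI := Fact.mk Nat.prime_two
  obtain ⟨e₀, he₀, he₀1⟩ := exists_ne_one h
  haveI : Nontrivial W := by
    by_contra hW
    rw [not_nontrivial_iff_subsingleton] at hW
    exact he₀1 (MulEquiv.ext fun x => Subsingleton.elim _ _)
  haveI := h.two.center_nontrivial
  obtain ⟨c, hc⟩ := exists_prime_orderOf_dvd_card' (G := Subgroup.center W) 2 (by
    obtain ⟨k, hk⟩ := IsPGroup.iff_card.mp (h.two.to_subgroup (Subgroup.center W))
    rcases Nat.eq_zero_or_pos k with rfl | hk0
    · exact absurd hk (by rw [pow_zero]; exact Finite.one_lt_card.ne')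
    · exact hk ▸ dvd_pow_self 2 hk0.ne')
  have hz2 : orderOf (c : W) = 2 := by rw [Subgroup.orderOf_coe]; exact hc
  set z : W := c.val
  have hzz : z * z = 1 := by rw [← pow_two, ← hz2, pow_orderOf_eq_one]
  let M : Subgroup W :=
    { carrier := {x | x ∈ Subgroup.center W ∧ x * x = 1}
      one_mem' := ⟨Subgroup.one_mem _, one_mul 1⟩
      mul_mem' := fun {a b} ha hb => ⟨Subgroup.mul_mem _ ha.1 hb.1, by
        rw [show a * b * (a * b) = a * (b * a) * b by group, Subgroup.mem_center_iff.mp ha.1 b,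
          show a * (a * b) * b = (a * a) * (b * b) by group, ha.2, hb.2, one_mul]⟩
      inv_mem' := fun {a} ha => ⟨Subgroup.inv_mem _ ha.1, by rw [← mul_inv_rev, ha.2, inv_one]⟩ }
  let C₀ : Subgroup W := ⨅ f : E, fx (f : MulAut W)
  have hfixed : ∀ e ∈ E, e ≠ 1 → ∀ x, orderOf x = 2 → e x = x → ∀ f ∈ E, f x = x := by
    intro e he he1 x hx hex f hf
    refine (h.fix e he he1 x (f x) hx (by rw [MulEquiv.orderOf_eq]; exact hx) hex ?_).symm
    rw [apply_comm h he hf, hex]
  have hMC : M ≤ C₀ := gen h M C₀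
    (fun f _ x hx => ⟨Subgroup.characteristic_iff_map_le.mp inferInstance f
      (Subgroup.mem_map_of_mem _ hx.1), by rw [← map_mul, hx.2, map_one]⟩)
    fun e he he1 x hx hex => by
      rcases eq_or_ne x 1 with rfl | hx1
      · exact C₀.one_mem
      · simp only [C₀, Subgroup.mem_iInf]
        exact fun f => hfixed e he he1 x (orderOf_eq_prime (by rw [pow_two]; exact hx.2) hx1) hex f f.2
  have hzfix : ∀ f ∈ E, f z = z := fun f hf => by
    have := hMC (show z ∈ M from ⟨c.2, hzz⟩)
    simp only [C₀, Subgroup.mem_iInf] at this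
    exact this ⟨f, hf⟩
  exact ⟨z, fun e => by rw [e, orderOf_one] at hz2; omega, hzz,
    fun x => (Subgroup.mem_center_iff.mp c.2 x).symm, hzfix,
    fun e he he1 x hx hex => h.fix e he he1 x z hx hz2 hex (hzfix e he)⟩

theorem fx_invariant {e f : MulAut W} (he : e ∈ E) (hf : f ∈ E) {x : W} (hx : x ∈ fx e) :
    f x ∈ fx e := by
  rw [mem_fx] at hx ⊢
  rw [apply_comm h he hf, hx]

theorem all_fixed_or_q8 {z : W} (hz1 : z ≠ 1) (hzz : z * z = 1) (hzc : ∀ x, z * x = x * z)
    (hzfix : ∀ f ∈ E, f z = z)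
    (huniq : ∀ e ∈ E, e ≠ 1 → ∀ x, orderOf x = 2 → e x = x → x = z) {e : MulAut W} (he : e ∈ E)
    (he1 : e ≠ 1) :
    (∀ x ∈ fx e, ∀ f ∈ E, f x = x) ∨ (IsQ8 (fx e) z ∧ ∃ f ∈ E, ∃ q ∈ fx e, f q ≠ q) := by
  classical
  haveI := Fact.mk Nat.prime_two
  by_cases hall : ∀ x ∈ fx e, ∀ f ∈ E, f x = x
  · exact .inl hall
  refine .inr ?_
  push Not at hall
  obtain ⟨q₀, hq₀, f₀, hf₀, hmove⟩ := hall
  refine ⟨?_, f₀, hf₀, q₀, hq₀, hmove⟩
  have hu : ∀ x y : fx e, orderOf x = 2 → orderOf y = 2 → x = y := fun x y hx hy => by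
    rw [← Subgroup.orderOf_coe] at hx hy
    exact Subtype.ext ((huniq e he he1 x hx x.2).trans (huniq e he he1 y hy y.2).symm)
  rcases Invol.mulAut_or_quaternion_eight (h.two.to_subgroup (fx e)) hu with hA | i
  · exfalso
    let φ : MulAut (fx e) :=
      { toFun := fun x => ⟨f₀ x, fx_invariant h he hf₀ x.2⟩
        invFun := fun x => ⟨f₀⁻¹ x, fx_invariant h he (E.inv_mem hf₀) x.2⟩
        left_inv := fun x => Subtype.ext (MulAut.inv_apply_self W f₀ x)
        right_inv := fun x => Subtype.ext (MulAut.apply_inv_self W f₀ x)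
        map_mul' := fun a b => Subtype.ext (map_mul f₀ (a : W) b) }
    have hpow : ∀ (n : ℕ) (x : fx e), ((φ ^ n) x : W) = (f₀ ^ n) (x : W) := by
      intro n
      induction n with
      | zero => intro x; rfl
      | succ n ih =>
        intro x
        rw [pow_succ', pow_succ', MulAut.mul_apply, MulAut.mul_apply, ← ih]
        rfl
    obtain ⟨k, hk⟩ := h.pg ⟨f₀, hf₀⟩
    have hk' : f₀ ^ p ^ k = 1 := congrArg Subtype.val hk
    obtain ⟨j, hj⟩ := hA φ
    have h1 : orderOf φ ∣ p ^ k := orderOf_dvd_of_pow_eq_one (MulEquiv.ext fun x => Subtype.ext (by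
      rw [hpow, hk']; rfl))
    have h2 : orderOf φ ∣ 2 ^ j := orderOf_dvd_of_pow_eq_one hj
    have h3 : φ = 1 := orderOf_eq_one_iff.mp (Nat.eq_one_of_dvd_coprimes
      (((Nat.coprime_primes hpf.out Nat.prime_two).mpr h.odd).pow k j) h1 h2)
    exact hmove (congrArg Subtype.val (DFunLike.congr_fun h3 (⟨q₀, hq₀⟩ : fx e)))
  · have hfour : ∀ x : QuaternionGroup 2, x ^ 4 = 1 := by decide
    obtain ⟨i⟩ := i
    refine ⟨?_, hzfix e he, hzz, hz1, fun x hx hx1 hxz => ?_, fun x _ => hzc x⟩
    · rw [Nat.card_congr i.toEquiv, Nat.card_eq_fintype_card, QuaternionGroup.card]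
    · have h4 : (⟨x, hx⟩ : fx e) ^ 4 = 1 := i.injective (by rw [map_pow, hfour, map_one])
      have h4' : x * x * (x * x) = 1 := by
        have := congrArg Subtype.val h4
        simpa [pow_succ, mul_assoc] using this
      have hne : x * x ≠ 1 := fun e' => hxz (huniq e he he1 x
        (orderOf_eq_prime (by rw [pow_two]; exact e') hx1) hx)
      exact huniq e he he1 (x * x) (orderOf_eq_prime (by rw [pow_two]; exact h4') hne)
        (by rw [map_mul, mem_fx.mp hx])

/-- The theorem. -/
theorem main : Nat.card E = 9 ∧ IsExtraspecial 2 W ∧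
    (Nat.card W = 2 ^ 5 ∨ Nat.card W = 2 ^ 7 ∨ Nat.card W = 2 ^ 9) ∧
    {x : W | ∀ e ∈ E, e x = x} = (Subgroup.center W : Set W) := by
  classical
  haveI := Fact.mk Nat.prime_two
  haveI hfin : Finite (MulAut W) :=
    Finite.of_injective (fun f : MulAut W => (f : W → W)) DFunLike.coe_injective
  haveI := h.ab
  obtain ⟨z, hz1, hzz, hzc, hzfix, huniq⟩ := exists_z h
  have hzinv : z⁻¹ = z := inv_eq_of_mul_eq_one_right hzz
  let Zs : Subgroup W :=
    { carrier := {x | x = 1 ∨ x = z}
      one_mem' := .inl rfl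
      mul_mem' := by
        rintro a b (rfl | rfl) (rfl | rfl) <;> simp [hzz]
      inv_mem' := by
        rintro a (rfl | rfl) <;> simp [hzinv] }
  have hmemZ : ∀ x, x ∈ Zs ↔ x = 1 ∨ x = z := fun _ => Iff.rfl
  haveI hZn : Zs.Normal := ⟨fun n hn g => by
    rcases (hmemZ n).mp hn with rfl | rfl
    · simp [hmemZ]
    · rw [← hzc g, mul_inv_cancel_right]
      exact .inr rfl⟩
  have hd := fun {e : MulAut W} (he : e ∈ E) (he1 : e ≠ 1) =>
    all_fixed_or_q8 h hz1 hzz hzc hzfix huniq he he1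
  -- some fixed-point subgroup is quaternion
  obtain ⟨e₁, he₁, he₁1, hQ₁, f₁, hf₁, q₁, hq₁, hmove₁⟩ : ∃ e ∈ E, e ≠ 1 ∧ IsQ8 (fx e) z ∧
      ∃ f ∈ E, ∃ q ∈ fx e, f q ≠ q := by
    by_contra hno
    obtain ⟨e₀, he₀, he₀1⟩ := exists_ne_one h
    refine he₀1 (MulEquiv.ext fun x => ?_)
    refine gen h ⊤ (fx e₀) (fun _ _ _ _ => Subgroup.mem_top _) (fun e he he1 y _ hy => ?_)
      (Subgroup.mem_top x)
    rcases hd he he1 with hall | hq
    · exact hall y hy e₀ he₀
    · exact absurd ⟨e, he, he1, hq⟩ hno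
  have hC₀ : ∀ x, (∀ f ∈ E, f x = x) → x ∈ Zs := fun x hx => by
    by_contra hne
    rw [hmemZ] at hne
    push Not at hne
    exact hmove₁ (hQ₁.trivial_of_fix (odd_order h hf₁) (fun q hq => fx_invariant h he₁ hf₁ hq)
      (hzfix f₁ hf₁) (hx e₁ he₁) hne.1 hne.2 (hx f₁ hf₁) q₁ hq₁)
  have hd' : ∀ {e : MulAut W}, e ∈ E → e ≠ 1 → fx e ≤ Zs ∨
      (IsQ8 (fx e) z ∧ ∃ f ∈ E, ∃ q ∈ fx e, f q ≠ q) := fun he he1 =>
    (hd he he1).imp_left fun hall x hx => hC₀ x (hall x hx)
  -- the prime is three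
  have hnot : ∀ x ∈ fx e₁, x ∉ Zs → x ≠ 1 ∧ x ≠ z := fun x _ hx => by
    rw [hmemZ] at hx
    push Not at hx
    exact hx
  have hq₁Z : q₁ ≠ 1 ∧ q₁ ≠ z := hnot q₁ hq₁ fun hz => hmove₁ (by
    rcases (hmemZ _).mp hz with rfl | rfl
    · exact map_one f₁
    · exact hzfix f₁ hf₁)
  have hp3 : p = 3 := by
    by_contra hne
    obtain ⟨k, hk⟩ := h.pg ⟨f₁, hf₁⟩
    have hord : orderOf f₁ ∣ p ^ k := orderOf_dvd_of_pow_eq_one (congrArg Subtype.val hk)
    obtain ⟨m, hm⟩ := exists_pow_eq_self_of_coprime (x := f₁) (n := 3)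
      (Nat.Coprime.coprime_dvd_right hord
        (((Nat.coprime_primes Nat.prime_three hpf.out).mpr (Ne.symm hne)).pow_right k))
    obtain ⟨-, -, h3, -⟩ := hQ₁.cycle (odd_order h hf₁) (fun q hq => fx_invariant h he₁ hf₁ hq)
      (hzfix f₁ hf₁) ⟨q₁, hq₁, hmove₁⟩ hq₁ hq₁Z.1 hq₁Z.2
    have hstab : f₁ ^ 3 ∈ MulAction.stabilizer (MulAut W) q₁ := by
      rw [MulAction.mem_stabilizer_iff, MulAut.smul_def, pow_succ, pow_two, MulAut.mul_apply,
        MulAut.mul_apply]
      exact h3
    exact hmove₁ (hm ▸ Subgroup.pow_mem _ hstab m : f₁ ∈ MulAction.stabilizer (MulAut W) q₁)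
  subst hp3
  -- exponent three
  have hexp : ∀ f ∈ E, f ^ 3 = 1 := fun f hf => MulEquiv.ext fun x => by
    have hcube : ∀ a, (f ^ 3) a = f (f (f a)) := fun a => by
      rw [pow_succ, pow_two, MulAut.mul_apply, MulAut.mul_apply]
    refine gen h ⊤ (fx (f ^ 3)) (fun _ _ _ _ => Subgroup.mem_top _) (fun e he he1 y _ hy => ?_)
      (Subgroup.mem_top x)
    rw [mem_fx, hcube]
    by_cases hyZ : y ∈ Zs
    · rcases (hmemZ y).mp hyZ with rfl | rfl
      · simp
      · rw [hzfix f hf, hzfix f hf, hzfix f hf]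
    · rcases hd' he he1 with hle | ⟨hQ, -⟩
      · exact absurd (hle hy) hyZ
      · rw [hmemZ] at hyZ
        push Not at hyZ
        by_cases hfy : f y = y
        · rw [hfy, hfy, hfy]
        · exact (hQ.cycle (odd_order h hf) (fun q hq => fx_invariant h he hf hq) (hzfix f hf)
            ⟨y, hy, hfy⟩ hy hyZ.1 hyZ.2).2.2.1
  -- the order of `E`
  have hE9 : Nat.card E = 9 := by
    obtain ⟨a, ha⟩ := IsPGroup.iff_card.mp h.pg
    have h2a : 2 ≤ a := by
      by_contra hlt
      interval_cases a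
      · haveI : Subsingleton E := (Nat.card_eq_one_iff_unique.mp (by simpa using ha)).1
        exact h.nc inferInstance
      · exact h.nc (isCyclic_of_prime_card (p := 3) (by simpa using ha))
    by_contra hne
    have h3a : 3 ≤ a := by
      rcases Nat.lt_or_ge a 3 with hlt | hge
      · interval_cases a
        exact absurd (by simpa using ha) hne
      · exact hge
    let K : Subgroup (MulAut W) :=
      E ⊓ ⨅ x : fx e₁, MulAction.stabilizer (MulAut W) (x : W)
    have hKmem : ∀ g, g ∈ K ↔ g ∈ E ∧ ∀ x ∈ fx e₁, g x = x := fun g => by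
      simp only [K, Subgroup.mem_inf, Subgroup.mem_iInf, MulAction.mem_stabilizer_iff, Subtype.forall]
      rfl
    obtain ⟨c1, c2, c3, c4⟩ := hQ₁.cycle (odd_order h hf₁) (fun q hq => fx_invariant h he₁ hf₁ hq)
      (hzfix f₁ hf₁) ⟨q₁, hq₁, hmove₁⟩ hq₁ hq₁Z.1 hq₁Z.2
    have hfix : ∀ g ∈ E, g q₁ = q₁ ∨ g q₁ = q₁ * z → g ∈ K := fun g hg hq => (hKmem g).mpr
      ⟨hg, hQ₁.trivial_of_fix (odd_order h hg) (fun q hq => fx_invariant h he₁ hg hq) (hzfix g hg)
        hq₁ hq₁Z.1 hq₁Z.2 (apply_eq_of_coset (odd_order h hg) (hzfix g hg) hzz hq)⟩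
    have hcover : (E : Set (MulAut W)) ⊆
        (K : Set (MulAut W)) ∪ ((fun g => f₁ * g) '' K ∪ (fun g => f₁ * f₁ * g) '' K) := by
      intro g hg
      have hgq := fx_invariant h he₁ hg hq₁
      have hz' : ∀ u, f₁⁻¹ u = f₁⁻¹ u := fun _ => rfl
      have hfz' : f₁⁻¹ z = z := hzfix _ (E.inv_mem hf₁)
      have inv1 : ∀ u, f₁⁻¹ (f₁ u) = u := fun u => MulAut.inv_apply_self W f₁ u
      rcases c4 (g q₁) hgq with e | e | e | e | e | e | e | e
      · exact absurd (g.injective (e.trans (map_one g).symm)) hq₁Z.1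
      · exact absurd (g.injective (e.trans (hzfix g hg).symm)) hq₁Z.2
      · exact .inl (hfix g hg (.inl e))
      · exact .inl (hfix g hg (.inr e))
      · exact .inr (.inl ⟨f₁⁻¹ * g, hfix _ (E.mul_mem (E.inv_mem hf₁) hg) (.inl (by
          rw [MulAut.mul_apply, e, inv1])), mul_inv_cancel_left f₁ g⟩)
      · exact .inr (.inl ⟨f₁⁻¹ * g, hfix _ (E.mul_mem (E.inv_mem hf₁) hg) (.inr (by
          rw [MulAut.mul_apply, e, map_mul, inv1, hfz'])), mul_inv_cancel_left f₁ g⟩)
      · exact .inr (.inr ⟨(f₁ * f₁)⁻¹ * g, hfix _ (E.mul_mem (E.inv_mem (E.mul_mem hf₁ hf₁)) hg)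
          (.inl (by rw [mul_inv_rev, MulAut.mul_apply, MulAut.mul_apply, e, inv1, inv1])),
          mul_inv_cancel_left _ g⟩)
      · exact .inr (.inr ⟨(f₁ * f₁)⁻¹ * g, hfix _ (E.mul_mem (E.inv_mem (E.mul_mem hf₁ hf₁)) hg)
          (.inr (by rw [mul_inv_rev, MulAut.mul_apply, MulAut.mul_apply, e, map_mul, inv1, hfz',
            map_mul, inv1, hfz'])), mul_inv_cancel_left _ g⟩)
    have hK9 : 3 < Nat.card K := by
      have h1 := Set.ncard_le_ncard hcover (Set.toFinite _)
      have h2 := Set.ncard_union_le (K : Set (MulAut W))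
        ((fun g => f₁ * g) '' K ∪ (fun g => f₁ * f₁ * g) '' K)
      have h3 := Set.ncard_union_le ((fun g => f₁ * g) '' (K : Set (MulAut W)))
        ((fun g => f₁ * f₁ * g) '' K)
      have h4 := Set.ncard_image_le (f := fun g => f₁ * g) (s := (K : Set (MulAut W))) (Set.toFinite _)
      have h5 := Set.ncard_image_le (f := fun g => f₁ * f₁ * g) (s := (K : Set (MulAut W)))
        (Set.toFinite _)
      have e1 : (E : Set (MulAut W)).ncard = Nat.card E := (Nat.card_coe_set_eq _).symm
      have e2 : (K : Set (MulAut W)).ncard = Nat.card K := (Nat.card_coe_set_eq _).symm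
      have h27 : 27 ≤ Nat.card E := by
        rw [ha]
        exact le_trans (by norm_num) (Nat.pow_le_pow_right (by norm_num) h3a : 3 ^ 3 ≤ 3 ^ a)
      omega
    have hKE : K ≤ E := inf_le_left
    have hKab : IsMulCommutative K := ⟨⟨fun a b => Subtype.ext
      (congrArg Subtype.val (mul_comm' (⟨a, hKE a.2⟩ : E) ⟨b, hKE b.2⟩) :)⟩⟩
    have hKnc : ¬ IsCyclic K := Coprime.not_isCyclic_of_exponent
      (fun g hg => hexp g (hKE hg)) (by norm_num) hK9
    have hWQ : (⊤ : Subgroup W) ≤ fx e₁ := le_of_fixed_le K hKab hKnc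
      ((coprime_card h).coprime_dvd_left (Subgroup.card_dvd_of_le hKE)) ⊤ (fx e₁)
      (fun _ _ _ _ => Subgroup.mem_top _) fun g hg hg1 x _ hx => by
        obtain ⟨hgE, hgQ⟩ := (hKmem g).mp hg
        have hsub : fx e₁ ≤ fx g := fun u hu => hgQ u hu
        rcases hd' hgE hg1 with hle | ⟨hQg, -⟩
        · rcases (hmemZ x).mp (hle hx) with rfl | rfl
          · exact (fx e₁).one_mem
          · exact hQ₁.z_mem
        · have : fx e₁ = fx g := Subgroup.eq_of_le_of_card_ge hsub (by rw [hQg.card, hQ₁.card])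
          rw [this]
          exact hx
    obtain ⟨⟨g, hg⟩, hgne⟩ : ∃ g : K, g ≠ 1 := by
      haveI : Nontrivial K := Finite.one_lt_card_iff_nontrivial.mp (by omega)
      exact exists_ne 1
    exact hgne (Subtype.ext (MulEquiv.ext fun x => ((hKmem g).mp hg).2 x (hWQ (Subgroup.mem_top x))))
  -- facts about one quaternion subgroup
  have hQfacts : ∀ {e : MulAut W}, e ∈ E → IsQ8 (fx e) z → ∀ {f : MulAut W}, f ∈ E →
      (∃ q ∈ fx e, f q ≠ q) → ∀ {x : W}, x ∈ fx e → x ∉ Zs →
      x * f x ≠ f x * x ∧ ⁅x, f x⁆ = z := by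
    intro e he hQ f hf hmv x hx hxZ
    rw [hmemZ] at hxZ
    push Not at hxZ
    obtain ⟨hx1, hxz⟩ := hxZ
    obtain ⟨a1, a2, -, -⟩ := hQ.cycle (odd_order h hf) (fun q hq => fx_invariant h he hf hq)
      (hzfix f hf) hmv hx hx1 hxz
    have hfx := fx_invariant h he hf hx
    have hfx1 : f x ≠ 1 := fun e' => hx1 (f.injective (e'.trans (map_one f).symm))
    have hfxz : f x ≠ z := fun e' => hxz (f.injective (e'.trans (hzfix f hf).symm))
    have hp1 : x * f x ≠ 1 := fun e' => a2 (by
      rw [eq_inv_of_mul_eq_one_right e', hQ.inv_eq hx hx1 hxz])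
    have hp2 : x * f x ≠ z := fun e' => a1 (by
      rw [← hQ.sq x hx hx1 hxz] at e'
      exact mul_left_cancel e')
    have hsq := hQ.sq _ ((fx e).mul_mem hx hfx) hp1 hp2
    refine ⟨fun hc => hz1 ?_, ?_⟩
    · rw [← hsq, show x * f x * (x * f x) = x * (f x * x) * f x by group, ← hc,
        show x * (x * f x) * f x = (x * x) * (f x * f x) by group, hQ.sq x hx hx1 hxz,
        hQ.sq _ hfx hfx1 hfxz, hzz]
    · rw [commutatorElement_def, hQ.inv_eq hx hx1 hxz, hQ.inv_eq hfx hfx1 hfxz,
        show x * f x * (x * z) * (f x * z) = x * f x * (x * (z * f x)) * z by group, hzc (f x),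
        show x * f x * (x * (f x * z)) * z = (x * f x * (x * f x)) * (z * z) by group, hsq, hzz,
        mul_one]
  have hzcomm : z ∈ commutator W := by
    obtain ⟨-, e'⟩ := hQfacts he₁ hQ₁ hf₁ ⟨q₁, hq₁, hmove₁⟩ hq₁
      (by rw [hmemZ]; push Not; exact hq₁Z)
    exact e' ▸ Subgroup.commutator_mem_commutator (Subgroup.mem_top _) (Subgroup.mem_top _)
  -- all commutators lie in `Zs`
  have hcomm : commutator W ≤ Zs := by
    by_contra hne
    haveI := h.two.isNilpotent
    let π := QuotientGroup.mk' Zs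
    haveI : Group.IsNilpotent (W ⧸ Zs) := (h.two.to_quotient Zs).isNilpotent
    haveI : ((commutator W).map π).Normal :=
      Subgroup.Normal.map inferInstance π (QuotientGroup.mk'_surjective Zs)
    have hbot : (commutator W).map π ≠ ⊥ := fun e' => hne fun w hw => (QuotientGroup.eq_one_iff w).mp
      (show π w = 1 from Subgroup.mem_bot.mp (e' ▸ Subgroup.mem_map_of_mem π hw))
    let M : Subgroup W := commutator W ⊓ (Subgroup.center (W ⧸ Zs)).comap π
    have hMmem : ∀ q ∈ M, ∀ a, q * a * q⁻¹ = a ∨ q * a * q⁻¹ = a * z := fun q hq a => by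
      have hh := Subgroup.mem_center_iff.mp (Subgroup.mem_inf.mp hq).2 (π a)
      have : a⁻¹ * (q * a * q⁻¹) ∈ Zs := by
        rw [← QuotientGroup.eq_one_iff]
        show π (a⁻¹ * (q * a * q⁻¹)) = 1
        rw [map_mul, map_inv, map_mul, map_mul, map_inv, ← hh]
        group
      rcases (hmemZ _).mp this with e' | e'
      · exact .inl (inv_mul_eq_one.mp e').symm
      · exact .inr (by rw [← e']; group)
    have hMchar : ∀ f ∈ E, ∀ x ∈ M, f x ∈ M := fun f hf x hx => by
      obtain ⟨hx1, hx2⟩ := Subgroup.mem_inf.mp hx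
      refine Subgroup.mem_inf.mpr ⟨Subgroup.characteristic_iff_map_le.mp inferInstance f
        (Subgroup.mem_map_of_mem _ hx1), Subgroup.mem_comap.mpr (Subgroup.mem_center_iff.mpr fun u => ?_)⟩
      obtain ⟨u, rfl⟩ := QuotientGroup.mk'_surjective Zs u
      rcases hMmem x hx (f⁻¹ u) with e' | e'
      · have := congrArg f e'
        rw [map_mul, map_mul, map_inv, MulAut.apply_inv_self] at this
        rw [← map_mul, ← map_mul]
        refine congrArg π ?_
        calc u * f x = (f x * u * (f x)⁻¹) * f x := by rw [this]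
          _ = f x * u := by group
      · have := congrArg f e'
        rw [map_mul, map_mul, map_inv, map_mul, MulAut.apply_inv_self, hzfix f hf] at this
        rw [← map_mul, ← map_mul, show u * f x = (f x * u) * z by
          calc u * f x = (f x * u * (f x)⁻¹) * z⁻¹ * f x := by rw [this]; group
            _ = f x * u * ((f x)⁻¹ * (z⁻¹ * f x)) := by group
            _ = f x * u * z := by rw [hzinv, hzc (f x)]; group,
          map_mul π (f x * u), show π z = 1 from (QuotientGroup.eq_one_iff z).mpr (.inr rfl), mul_one]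
    have hnle : ¬ M ≤ Zs := fun hle => by
      obtain ⟨⟨t, ht⟩, ht1⟩ := Subgroup.ne_bot_iff_exists_ne_one.mp
        (Critical.inf_center_ne_bot _ hbot)
      obtain ⟨⟨w, hw, rfl⟩, hwc⟩ := Subgroup.mem_inf.mp ht
      exact ht1 (Subtype.ext ((QuotientGroup.eq_one_iff w).mpr
        (hle (Subgroup.mem_inf.mpr ⟨hw, Subgroup.mem_comap.mpr hwc⟩))))
    refine hnle (gen h M Zs hMchar fun e he he1 x hx hex => ?_)
    rcases hd' he he1 with hle | ⟨hQ, f, hf, hmv⟩
    · exact hle hex
    by_contra hxZ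
    obtain ⟨hne', -⟩ := hQfacts he hQ hf hmv hex hxZ
    -- `x` centralizes the commutator subgroup, which contains `f x`
    have hx' : ∀ a b : W, x * ⁅a, b⁆ * x⁻¹ = ⁅a, b⁆ := fun a b => by
      rw [show x * ⁅a, b⁆ * x⁻¹ = ⁅x * a * x⁻¹, x * b * x⁻¹⁆ by
        simp only [commutatorElement_def]; group]
      have hl : ∀ a b : W, ⁅a * z, b⁆ = ⁅a, b⁆ := fun a b => by
        simp only [commutatorElement_def, mul_inv_rev]
        calc a * z * b * (z⁻¹ * a⁻¹) * b⁻¹ = a * (z * b) * z⁻¹ * a⁻¹ * b⁻¹ := by group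
          _ = a * b * a⁻¹ * b⁻¹ := by rw [hzc b]; group
      have hr : ∀ a b : W, ⁅a, b * z⁆ = ⁅a, b⁆ := fun a b => by
        simp only [commutatorElement_def, mul_inv_rev]
        calc a * (b * z) * a⁻¹ * (z⁻¹ * b⁻¹) = a * b * (z * a⁻¹) * z⁻¹ * b⁻¹ := by group
          _ = a * b * a⁻¹ * b⁻¹ := by rw [hzc a⁻¹]; group
      rcases hMmem x hx a with e1 | e1 <;> rcases hMmem x hx b with e2 | e2 <;>
        simp only [e1, e2, hl, hr]
    have hle' : commutator W ≤ Subgroup.centralizer ({x} : Set W) :=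
      Subgroup.commutator_le.mpr fun a _ b _ => Subgroup.mem_centralizer_singleton_iff.mpr (by
        have := hx' a b
        rwa [mul_inv_eq_iff_eq_mul, eq_comm] at this)
    exact hne' (Subgroup.mem_centralizer_singleton_iff.mp
      (hle' (Subgroup.mem_inf.mp (hMchar f hf x hx)).1)).symm
  have hcommZ : ∀ a b : W, a * b = b * a ∨ a * b = b * a * z := fun a b => by
    have hm : ⁅b⁻¹, a⁻¹⁆ ∈ Zs :=
      hcomm (Subgroup.commutator_mem_commutator (Subgroup.mem_top _) (Subgroup.mem_top _))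
    rcases (hmemZ _).mp hm with e' | e' <;> simp only [commutatorElement_def, inv_inv] at e'
    · left
      calc a * b = a * b * (b⁻¹ * a⁻¹ * b * a) := by rw [e', mul_one]
        _ = b * a := by group
    · right
      calc a * b = b * a * (b⁻¹ * a⁻¹ * b * a)⁻¹ := by group
        _ = b * a * z := by rw [e', hzinv]
  -- squares
  have hsqZ : ∀ x : W, x * x ∈ Zs := fun x => by
    let Y : Subgroup W :=
      { carrier := {u | u * u ∈ Zs}
        one_mem' := by rw [Set.mem_ofPred_eq, one_mul]; exact Zs.one_mem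
        mul_mem' := fun {a b} ha hb => by
          show a * b * (a * b) ∈ Zs
          rcases hcommZ b a with e' | e'
          · rw [show a * b * (a * b) = a * (b * a) * b by group, e',
              show a * (a * b) * b = (a * a) * (b * b) by group]
            exact Zs.mul_mem ha hb
          · rw [show a * b * (a * b) = a * (b * a) * b by group, e',
              show a * (a * b * z) * b = (a * a) * (b * (z * b)) by group, hzc b,
              show b * (b * z) = (b * b) * z by group]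
            exact Zs.mul_mem ha (Zs.mul_mem hb (.inr rfl))
        inv_mem' := fun {a} ha => by
          show a⁻¹ * a⁻¹ ∈ Zs
          rw [← mul_inv_rev]
          exact Zs.inv_mem ha }
    refine gen h ⊤ Y (fun _ _ _ _ => Subgroup.mem_top _) (fun e he he1 y _ hy => ?_)
      (Subgroup.mem_top x)
    show y * y ∈ Zs
    by_cases hyZ : y ∈ Zs
    · exact Zs.mul_mem hyZ hyZ
    · rcases hd' he he1 with hle | ⟨hQ, -⟩
      · exact absurd (hle hy) hyZ
      · rw [hmemZ] at hyZ
        push Not at hyZ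
        exact .inr (hQ.sq y hy hyZ.1 hyZ.2)
  -- the centre
  have hcent : ∀ x, x ∈ Subgroup.center W ↔ x ∈ Zs := fun x => by
    refine ⟨fun hx => gen h (Subgroup.center W) Zs (fun f _ u hu =>
      Subgroup.characteristic_iff_map_le.mp inferInstance f (Subgroup.mem_map_of_mem _ hu))
      (fun e he he1 u hu hue => ?_) hx, fun hx => ?_⟩
    · rcases hd' he he1 with hle | ⟨hQ, f, hf, hmv⟩
      · exact hle hue
      · by_contra huZ
        exact (hQfacts he hQ hf hmv hue huZ).1 (Subgroup.mem_center_iff.mp hu (f u)).symm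
    · rcases (hmemZ x).mp hx with rfl | rfl
      · exact Subgroup.one_mem _
      · exact Subgroup.mem_center_iff.mpr fun u => (hzc u).symm
  have hcenter : Subgroup.center W = Zs := Subgroup.ext hcent
  have hcommeq : commutator W = Zs := le_antisymm hcomm fun x hx => by
    rcases (hmemZ x).mp hx with rfl | rfl
    · exact Subgroup.one_mem _
    · exact hzcomm
  have hfr : frattini W = Zs := by
    refine le_antisymm (Critical.frattini_le_of_elementary (p := 2) Zs hcomm fun x => by
      rw [pow_two]; exact hsqZ x) fun x hx => ?_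
    rcases (hmemZ x).mp hx with rfl | rfl
    · exact Subgroup.one_mem _
    · rw [← hQ₁.sq q₁ hq₁ hq₁Z.1 hq₁Z.2, ← pow_two]
      exact OddOmega.pow_mem_frattini h.two q₁
  have hZcard : Nat.card Zs = 2 := by
    refine Nat.card_eq_two_iff.mpr ⟨1, ⟨z, .inr rfl⟩, fun e' => hz1 (congrArg Subtype.val e').symm,
      Set.eq_univ_iff_forall.mpr ?_⟩
    rintro ⟨x, rfl | rfl⟩
    · exact .inl rfl
    · exact .inr rfl
  -- distinct quaternion subgroups commute
  have hdist : ∀ {e e' : MulAut W}, e ∈ E → e' ∈ E → e' ≠ 1 → IsQ8 (fx e) z →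
      IsQ8 (fx e') z → fx e ≠ fx e' → ∀ x ∈ fx e', ∀ q ∈ fx e, x * q = q * x := by
    intro e e' he he' he'1 hQ hQ' hne x hx q hq
    have hmv : ∃ u ∈ fx e, e' u ≠ u := by
      by_contra hno
      push Not at hno
      exact hne (Subgroup.eq_of_le_of_card_ge (fun u hu => hno u hu) (by rw [hQ.card, hQ'.card]))
    by_cases hqZ : q ∈ Zs
    · rcases (hmemZ q).mp hqZ with rfl | rfl
      · rw [one_mul, mul_one]
      · exact (hzc x).symm
    rw [hmemZ] at hqZ
    push Not at hqZ
    -- `q` is, up to `z`, of the form `y⁻¹ * e' y`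
    set y := e' q
    have hy : y ∈ fx e := fx_invariant h he he' hq
    have hy1 : y ≠ 1 := fun e'' => hqZ.1 (e'.injective (e''.trans (map_one e').symm))
    have hyz : y ≠ z := fun e'' => hqZ.2 (e'.injective (e''.trans (hzfix e' he').symm))
    obtain ⟨b1, b2, b3, b4⟩ := hQ.cycle (odd_order h he') (fun u hu => fx_invariant h he he' hu)
      (hzfix e' he') hmv hy hy1 hyz
    have hw : ∀ u, x * u = u * x → x * (u * z) = (u * z) * x := fun u hu => by
      rw [← mul_assoc, hu, mul_assoc, ← hzc x, ← mul_assoc]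
    have hx' : x * (y⁻¹ * e' y) = (y⁻¹ * e' y) * x := by
      rcases hcommZ x y with hxy | hxy
      · have hxy' : x * e' y = e' y * x := by
          have := congrArg e' hxy
          rwa [map_mul, map_mul, mem_fx.mp hx] at this
        calc x * (y⁻¹ * e' y) = y⁻¹ * (y * x) * y⁻¹ * e' y := by group
          _ = y⁻¹ * (x * e' y) := by rw [← hxy]; group
          _ = (y⁻¹ * e' y) * x := by rw [hxy']; group
      · have hxy' : x * e' y = e' y * x * z := by
          have := congrArg e' hxy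
          rwa [map_mul, map_mul, map_mul, mem_fx.mp hx, hzfix e' he'] at this
        calc x * (y⁻¹ * e' y) = y⁻¹ * (y * x) * y⁻¹ * e' y := by group
          _ = y⁻¹ * (x * y * z⁻¹) * y⁻¹ * e' y := by rw [hxy]; group
          _ = y⁻¹ * (x * (y * (z * y⁻¹)) * e' y) := by rw [hzinv]; group
          _ = y⁻¹ * (x * z * e' y) := by rw [hzc y⁻¹]; group
          _ = y⁻¹ * (z * (x * e' y)) := by rw [← hzc x]; group
          _ = y⁻¹ * (z * (e' y * x * z)) := by rw [hxy']
          _ = y⁻¹ * (e' y * x * (z * z)) := by rw [hzc (e' y * x * z)]; group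
          _ = (y⁻¹ * e' y) * x := by rw [hzz]; group
    have hwY : y⁻¹ * e' y ∈ fx e := (fx e).mul_mem ((fx e).inv_mem hy) (fx_invariant h he he' hy)
    have hey : e' (e' y) = q := by
      show e' (e' (e' q)) = q
      have := DFunLike.congr_fun (hexp e' he') q
      rwa [pow_succ, pow_two, MulAut.mul_apply, MulAut.mul_apply] at this
    have hyinv := hQ.inv_eq hy hy1 hyz
    have hey1 : e' y ≠ 1 := fun e'' => hy1 (e'.injective (e''.trans (map_one e').symm))
    have hprod : y⁻¹ * e' y = q ∨ y⁻¹ * e' y = q * z := by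
      rcases b4 _ hwY with e'' | e'' | e'' | e'' | e'' | e'' | e'' | e''
      · exact absurd (inv_mul_eq_one.mp e'').symm b1
      · exact absurd (inv_mul_eq_iff_eq_mul.mp e'') b2
      · have h2 : e' y = y * y := inv_mul_eq_iff_eq_mul.mp e''
        rw [hQ.sq y hy hy1 hyz] at h2
        exact absurd (e'.injective (h2.trans (hzfix e' he').symm)) hyz
      · have h2 : e' y = y * (y * z) := inv_mul_eq_iff_eq_mul.mp e''
        rw [← mul_assoc, hQ.sq y hy hy1 hyz, hzz] at h2
        exact absurd h2 hey1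
      · exact absurd (inv_eq_one.mp (mul_eq_right.mp e'')) hy1
      · exfalso
        have h2 : y⁻¹ = z := by
          have h3 : y⁻¹ * e' y = z * e' y := by rw [e'', ← hzc (e' y)]
          exact mul_right_cancel h3
        exact hyz (by rw [← inv_inv y, h2, hzinv])
      · exact .inl (e''.trans hey)
      · exact .inr (e''.trans (by rw [hey]))
    rcases hprod with e'' | e''
    · exact e'' ▸ hx'
    · have := hw _ (e'' ▸ hx')
      rwa [mul_assoc q z z, hzz, mul_one] at this
  -- the order of `W`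
  haveI : Fintype (MulAut W) := Fintype.ofFinite _
  let S : Finset (MulAut W) :=
    Finset.univ.filter fun e => e ∈ E ∧ e ≠ 1 ∧ IsQ8 (fx e) z
  let T : Finset (Subgroup W) := S.image fx
  have hS : ∀ e ∈ S, e ∈ E ∧ e ≠ 1 ∧ IsQ8 (fx e) z := fun e he => (Finset.mem_filter.mp he).2
  have hTcard : T.card ≤ 4 := by
    have hsub : S.card ≤ 8 := by
      have h8 : ((Finset.univ.filter fun e : MulAut W => e ∈ E).erase 1).card = 8 := by
        rw [Finset.card_erase_of_mem (Finset.mem_filter.mpr ⟨Finset.mem_univ _, E.one_mem⟩),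
          ← Nat.card_eq_finsetCard, Nat.card_congr (Equiv.subtypeEquivRight
            (q := fun e => e ∈ E) fun e => by simp)]
        show Nat.card E - 1 = 8
        omega
      refine h8 ▸ Finset.card_le_card fun e he => ?_
      obtain ⟨h1, h2, -⟩ := hS e he
      simp [h1, h2]
    have h2 : 2 * T.card ≤ S.card := by
      refine Finset.mul_card_image_le_card _ 2 fun Q hQ => ?_
      obtain ⟨e, he, rfl⟩ := Finset.mem_image.mp hQ
      obtain ⟨h1, h2, h3⟩ := hS e he
      have hne : e ^ 2 ≠ e := fun e' => h2 (by rwa [pow_two, mul_eq_left] at e')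
      have hfx : fx (e ^ 2) = fx e := by
        ext u
        rw [mem_fx, mem_fx, pow_two, MulAut.mul_apply]
        exact ⟨fun hu => apply_eq_of_two (odd_order h h1) hu, fun hu => by rw [hu, hu]⟩
      have hsub2 : ({e, e ^ 2} : Finset (MulAut W)) ⊆ S.filter fun a => fx a = fx e := by
        intro a ha
        simp only [Finset.mem_insert, Finset.mem_singleton] at ha
        rcases ha with rfl | rfl
        · exact Finset.mem_filter.mpr ⟨he, rfl⟩
        · refine Finset.mem_filter.mpr ⟨Finset.mem_filter.mpr ⟨Finset.mem_univ _, E.pow_mem h1 2,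
            fun e' => h2 ?_, hfx ▸ h3⟩, hfx⟩
          have := hexp e h1
          rwa [pow_succ, e', one_mul] at this
      exact (Finset.card_pair hne.symm).ge.trans (Finset.card_le_card hsub2)
    omega
  have hsup : ∀ U : Finset (Subgroup W), U ⊆ T →
      Nat.card ↥(Zs ⊔ U.sup id) = 2 * 4 ^ U.card ∧
        ∀ Q ∈ T, Q ∉ U → Zs ⊔ U.sup id ≤ Subgroup.centralizer (Q : Set W) := by
    intro U
    induction U using Finset.induction with
    | empty =>
      intro _
      refine ⟨by simp [hZcard], fun Q _ _ => ?_⟩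
      rw [Finset.sup_empty, sup_bot_eq]
      exact fun u hu => Subgroup.mem_centralizer_iff.mpr fun v _ => by
        rcases (hmemZ u).mp hu with rfl | rfl
        · rw [mul_one, one_mul]
        · exact (hzc v).symm
    | insert Q U hQU ih =>
      intro hsubT
      obtain ⟨ih1, ih2⟩ := ih (fun R hR => hsubT (Finset.mem_insert_of_mem hR))
      have hQT := hsubT (Finset.mem_insert_self Q U)
      obtain ⟨e, he, rfl⟩ := Finset.mem_image.mp hQT
      obtain ⟨heE, he1, hQ⟩ := hS e he
      obtain ⟨f, hf, hmv⟩ : ∃ f ∈ E, ∃ q ∈ fx e, f q ≠ q := by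
        rcases hd' heE he1 with hle | ⟨-, hmv⟩
        · have := Nat.card_le_card_of_injective _ (Subgroup.inclusion_injective hle)
          rw [hQ.card, hZcard] at this
          omega
        · exact hmv
      have hcen := ih2 _ hQT hQU
      set B := Zs ⊔ U.sup id with hB
      have hinf : B ⊓ fx e = Zs := by
        refine le_antisymm (fun u hu => ?_) (le_inf le_sup_left fun u hu => ?_)
        · by_contra huZ
          obtain ⟨huB, hue⟩ := Subgroup.mem_inf.mp hu
          exact (hQfacts heE hQ hf hmv hue huZ).1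
            (Subgroup.mem_centralizer_iff.mp (hcen huB) _ (fx_invariant h heE hf hue)).symm
        · rcases (hmemZ u).mp hu with rfl | rfl
          · exact Subgroup.one_mem _
          · exact hQ.z_mem
      have hnorm : fx e ≤ Subgroup.normalizer (B : Set W) := fun q hq => by
        refine Subgroup.mem_normalizer_iff.mpr fun u => ⟨fun hu => ?_, fun hu => ?_⟩
        · rwa [Subgroup.mem_centralizer_iff.mp (hcen hu) q hq, mul_inv_cancel_right]
        · have hh := Subgroup.mem_centralizer_iff.mp (hcen hu) q hq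
          have : u = q * u * q⁻¹ := by
            have h' := congrArg (fun a => q⁻¹ * a) hh
            simp only [inv_mul_cancel_left] at h'
            calc u = q⁻¹ * (q * u * q⁻¹) * q := by group
              _ = q * u * q⁻¹ := by rw [mul_assoc q⁻¹]; exact h'.symm
          exact this ▸ hu
      have hcard' := Coprime.card_sup_mul_card_inf hnorm
      rw [hinf, ih1, hQ.card, hZcard] at hcard'
      have heq : Zs ⊔ (insert (fx e) U).sup id = B ⊔ fx e := by
        rw [Finset.sup_insert, id, hB, sup_assoc, sup_comm (fx e)]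
      refine ⟨?_, fun R hR hRU => ?_⟩
      · rw [heq, Finset.card_insert_of_notMem hQU, pow_succ]
        omega
      · rw [heq]
        refine sup_le (ih2 R hR fun hh => hRU (Finset.mem_insert_of_mem hh)) fun u hu => ?_
        obtain ⟨e₂, he₂, rfl⟩ := Finset.mem_image.mp hR
        obtain ⟨he₂E, -, hQ₂⟩ := hS e₂ he₂
        exact Subgroup.mem_centralizer_iff.mpr fun v hv => (hdist he₂E heE he1 hQ₂ hQ
          (fun hh => hRU (hh ▸ Finset.mem_insert_self _ _)) u hu v hv).symm
  have htop : Zs ⊔ T.sup id = ⊤ := by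
    refine eq_top_iff.mpr (gen h ⊤ _ (fun _ _ _ _ => Subgroup.mem_top _) fun e he he1 y _ hy => ?_)
    rcases hd' he he1 with hle | ⟨hQ, -⟩
    · exact Subgroup.mem_sup_left (hle hy)
    · exact Subgroup.mem_sup_right (Finset.le_sup (f := id) (Finset.mem_image_of_mem fx
        (Finset.mem_filter.mpr ⟨Finset.mem_univ _, he, he1, hQ⟩) : fx e ∈ T) hy)
  have hWcard : Nat.card W = 2 * 4 ^ T.card := by
    rw [← (hsup T le_rfl).1, htop, Subgroup.card_top]
  have hT2 : 2 ≤ T.card := by
    by_contra hlt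
    have h1 : Nat.card W ≤ Nat.card (fx e₁) := by
      rw [hWcard, hQ₁.card]
      interval_cases T.card <;> norm_num
    have h2 := Subgroup.eq_top_of_le_card _ h1
    exact he₁1 (MulEquiv.ext fun x => (mem_fx.mp (h2 ▸ Subgroup.mem_top x)))
  refine ⟨hE9, ⟨⟨h.two, hfr.trans hcenter.symm, hcommeq.trans hcenter.symm⟩, hcenter ▸ hZcard⟩,
    ?_, ?_⟩
  · rw [hWcard]
    rcases (show T.card = 2 ∨ T.card = 3 ∨ T.card = 4 by omega) with e' | e' | e' <;> rw [e'] <;>
      norm_num
  · ext x
    refine ⟨fun hx => (hcent x).mpr (hC₀ x hx), fun hx f hf => ?_⟩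
    rcases (hmemZ x).mp ((hcent x).mp hx) with rfl | rfl
    · exact map_one f
    · exact hzfix f hf

end CfsgLib.FourQuaternion
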